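import Cfsg.Agent.H839.Rad.Base
import Cfsg.Agent.ClassicalGeometry.SplitTorus
import Cfsg.Agent.Classification.NGroupExclude

/-!
# Two transvections generate a non-solvable group (helper839, for S3829)

* `not_solvable_closure` : `a`, `b` generate an elementary abelian group of order `p ^ 2`, `p ≥ 5`, `u` fixes `a` and maps
  `b` to `b a ^ m`, `v` fixes `b` and maps `a` to `a b ^ n`, `p ∤ m n`: `⟨u, v⟩` is not solvable;
* `not_solvable_pair` : `x` fixes `w` and moves `w₁` to `w₁ w ^ j`, `q` fixes `w₁` and moves `w` to `w w₁ ^ k`: `⟨x, q x q⁻¹⟩` is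
  not solvable.
-/

set_option autoImplicit false

namespace Cfsg.Agent.H839.Rad

open Subgroup
open Matrix (SpecialLinearGroup)
open ClassicalGeometry.SplitTorus (up lo mul00 mul01 mul10 mul11 inv00 inv01 inv10 inv11 ext2 up_add up_zero mem_of_up_lo)

variable {K : Type*} [Group K] {p : ℕ}

section Act

variable [hp : Fact p.Prime] {a b : K}

theorem lo_zero' {F : Type*} [Field F] : lo (0 : F) = 1 := by
  refine ext2 ?_ ?_ ?_ ?_ <;> simp

theorem lo_add' {F : Type*} [Field F] (b c : F) : lo (b + c) = lo b * lo c := by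
  refine ext2 ?_ ?_ ?_ ?_
  · rw [mul00]; simp
  · rw [mul01]; simp
  · rw [mul10]; simp
  · rw [mul11]; simp

/-- the powers with exponents in `ZMod p` -/
def pz (a : K) (i : ZMod p) : K := a ^ i.val

theorem pz_zero : pz a (0 : ZMod p) = 1 := by
  unfold pz; rw [ZMod.val_zero, pow_zero]

theorem pz_one : pz a (1 : ZMod p) = a := by
  unfold pz
  have : Fact (1 < p) := ⟨hp.out.one_lt⟩
  rw [ZMod.val_one, pow_one]

theorem pz_natCast (ha : a ^ p = 1) (n : ℕ) : pz a (n : ZMod p) = a ^ n := by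
  unfold pz
  rw [ZMod.val_natCast, ← pow_mod_orderOf a n, ← pow_mod_orderOf a (n % p), Nat.mod_mod_of_dvd _ (orderOf_dvd_of_pow_eq_one ha)]

theorem pz_add (ha : a ^ p = 1) (i j : ZMod p) : pz a (i + j) = pz a i * pz a j := by
  have h1 : i + j = ((i.val + j.val : ℕ) : ZMod p) := by
    rw [Nat.cast_add, ZMod.natCast_zmod_val, ZMod.natCast_zmod_val]
  rw [h1, pz_natCast ha, pow_add]
  rfl

theorem pz_mul (ha : a ^ p = 1) (i j : ZMod p) : pz a (i * j) = pz a i ^ j.val := by
  have h1 : i * j = ((i.val * j.val : ℕ) : ZMod p) := by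
    rw [Nat.cast_mul, ZMod.natCast_zmod_val, ZMod.natCast_zmod_val]
  rw [h1, pz_natCast ha, pow_mul]
  rfl

theorem pz_intCast (ha : a ^ p = 1) (n : ℤ) : pz a (n : ZMod p) = a ^ n := by
  obtain ⟨k, hk⟩ : ∃ k : ℤ, n = (((n : ZMod p).val : ℕ) : ℤ) + p * k := by
    have h1 : (((n : ZMod p).val : ℤ) : ZMod p) = (n : ZMod p) := by
      rw [Int.cast_natCast, ZMod.natCast_zmod_val]
    have h2 := (ZMod.intCast_eq_intCast_iff_dvd_sub _ _ p).1 h1
    obtain ⟨k, hk⟩ := h2
    exact ⟨k, by rw [← hk]; ring⟩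
  conv_rhs => rw [hk, zpow_add, zpow_natCast, zpow_mul, zpow_natCast, ha, one_zpow, mul_one]
  rfl

/-- `h` acts on `⟨a, b⟩` as the matrix `M` -/
def Act (a b h : K) (M : SpecialLinearGroup (Fin 2) (ZMod p)) : Prop :=
  h * a * h⁻¹ = pz a (M 0 0) * pz b (M 1 0) ∧ h * b * h⁻¹ = pz a (M 0 1) * pz b (M 1 1)

theorem Act.apply {h : K} {M : SpecialLinearGroup (Fin 2) (ZMod p)} (ha : a ^ p = 1) (hb : b ^ p = 1)
    (hab : a * b = b * a) (H : Act a b h M) (i j : ZMod p) :
    h * (pz a i * pz b j) * h⁻¹ = pz a (M 0 0 * i + M 0 1 * j) * pz b (M 1 0 * i + M 1 1 * j) := by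
  have c : ∀ i j : ZMod p, Commute (pz a i) (pz b j) := fun i j => (show Commute a b from hab).pow_pow _ _
  have e1 : h * (pz a i * pz b j) * h⁻¹ = (h * a * h⁻¹) ^ i.val * (h * b * h⁻¹) ^ j.val := by
    rw [conj_pow, conj_pow]
    unfold pz
    group
  rw [e1, H.1, H.2, (c _ _).mul_pow, (c _ _).mul_pow, ← pz_mul ha, ← pz_mul ha, ← pz_mul hb, ← pz_mul hb, pz_add ha,
    pz_add hb]
  have := (c (M 0 1 * j) (M 1 0 * i)).eq
  calc pz a (M 0 0 * i) * pz b (M 1 0 * i) * (pz a (M 0 1 * j) * pz b (M 1 1 * j))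
      = pz a (M 0 0 * i) * (pz b (M 1 0 * i) * pz a (M 0 1 * j)) * pz b (M 1 1 * j) := by group
    _ = pz a (M 0 0 * i) * (pz a (M 0 1 * j) * pz b (M 1 0 * i)) * pz b (M 1 1 * j) := by rw [this]
    _ = _ := by group

theorem Act.mul {h k : K} {M N : SpecialLinearGroup (Fin 2) (ZMod p)} (ha : a ^ p = 1) (hb : b ^ p = 1)
    (hab : a * b = b * a) (H : Act a b h M) (J : Act a b k N) : Act a b (h * k) (M * N) := by
  constructor
  · have e : h * k * a * (h * k)⁻¹ = h * (k * a * k⁻¹) * h⁻¹ := by group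
    rw [e, J.1, H.apply ha hb hab]
    rw [mul00, mul10]
  · have e : h * k * b * (h * k)⁻¹ = h * (k * b * k⁻¹) * h⁻¹ := by group
    rw [e, J.2, H.apply ha hb hab]
    rw [mul01, mul11]

theorem act_one : Act a b 1 (1 : SpecialLinearGroup (Fin 2) (ZMod p)) := by
  constructor <;> simp [pz_zero, pz_one]

theorem Act.inv {h : K} {M : SpecialLinearGroup (Fin 2) (ZMod p)} (ha : a ^ p = 1) (hb : b ^ p = 1)
    (hab : a * b = b * a) (H : Act a b h M) : Act a b h⁻¹ M⁻¹ := by
  have key : ∀ i j : ZMod p, h⁻¹ * (pz a (M 0 0 * i + M 0 1 * j) * pz b (M 1 0 * i + M 1 1 * j)) * h = pz a i * pz b j := by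
    intro i j
    rw [← H.apply ha hb hab]
    group
  have hdet : M 0 0 * M 1 1 - M 0 1 * M 1 0 = 1 := ClassicalGeometry.SplitTorus.det_eq M
  constructor
  · have h1 := key (M 1 1) (-M 1 0)
    have e1 : M 0 0 * M 1 1 + M 0 1 * -M 1 0 = 1 := by linear_combination hdet
    have e2 : M 1 0 * M 1 1 + M 1 1 * -M 1 0 = 0 := by ring
    rw [e1, e2, pz_one, pz_zero, mul_one] at h1
    rw [inv_inv, inv00, inv10]
    exact h1.symm ▸ rfl
  · have h1 := key (-M 0 1) (M 0 0)
    have e1 : M 0 0 * -M 0 1 + M 0 1 * M 0 0 = 0 := by ring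
    have e2 : M 1 0 * -M 0 1 + M 1 1 * M 0 0 = 1 := by linear_combination hdet
    rw [e1, e2, pz_one, pz_zero, one_mul] at h1
    rw [inv_inv, inv01, inv11]
    exact h1.symm ▸ rfl

/-- a matrix acting trivially is the identity -/
theorem Act.eq_one {M : SpecialLinearGroup (Fin 2) (ZMod p)} (ha : orderOf a = p) (hb : orderOf b = p)
    (hab : a * b = b * a) (hba : b ∉ zpowers a) (H : Act a b 1 M) : M = 1 := by
  have hap : a ^ p = 1 := ha ▸ pow_orderOf_eq_one a
  have hbp : b ^ p = 1 := hb ▸ pow_orderOf_eq_one b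
  -- independence
  have ind : ∀ i j : ZMod p, pz a i * pz b j = 1 → i = 0 ∧ j = 0 := by
    intro i j h
    have h1 : pz b j ∈ zpowers a := by
      rw [eq_inv_of_mul_eq_one_right h]
      exact inv_mem (pow_mem (mem_zpowers a) _)
    have hj : j = 0 := by
      by_contra hj
      apply hba
      have h2 : pz b (j * j⁻¹) ∈ zpowers a := by
        rw [pz_mul hbp]
        exact pow_mem h1 _
      rwa [mul_inv_cancel₀ hj, pz_one] at h2
    subst hj
    rw [pz_zero, mul_one] at h
    refine ⟨?_, rfl⟩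
    have h3 : p ∣ i.val := by
      have h5 := orderOf_dvd_of_pow_eq_one (show a ^ i.val = 1 from h)
      rwa [ha] at h5
    have h4 : i.val = 0 := Nat.eq_zero_of_dvd_of_lt h3 (ZMod.val_lt i)
    exact (ZMod.val_eq_zero i).1 h4
  have c : ∀ i j : ZMod p, Commute (pz a i) (pz b j) := fun i j => (show Commute a b from hab).pow_pow _ _
  have ind2 : ∀ i j k l : ZMod p, pz a i * pz b j = pz a k * pz b l → i = k ∧ j = l := by
    intro i j k l h
    have h1 : pz a (i - k) * pz b (j - l) = 1 := by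
      have h2 : pz a (i - k) * pz a k = pz a i := by rw [← pz_add hap, sub_add_cancel]
      have h3 : pz b (j - l) * pz b l = pz b j := by rw [← pz_add hbp, sub_add_cancel]
      rw [← h2, ← h3] at h
      have h4 : pz a (i - k) * pz a k * (pz b (j - l) * pz b l) = (pz a (i - k) * pz b (j - l)) * (pz a k * pz b l) := by
        calc pz a (i - k) * pz a k * (pz b (j - l) * pz b l) = pz a (i - k) * (pz a k * pz b (j - l)) * pz b l := by group
          _ = pz a (i - k) * (pz b (j - l) * pz a k) * pz b l := by rw [(c k (j - l)).eq]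
          _ = _ := by group
      rw [h4] at h
      exact mul_eq_right.1 h
    obtain ⟨h5, h6⟩ := ind _ _ h1
    exact ⟨sub_eq_zero.1 h5, sub_eq_zero.1 h6⟩
  have h1 := ind2 1 0 (M 0 0) (M 1 0) (by rw [← H.1, pz_one, pz_zero]; group)
  have h2 := ind2 0 1 (M 0 1) (M 1 1) (by rw [← H.2, pz_one, pz_zero]; group)
  ext i j
  fin_cases i <;> fin_cases j
  · exact h1.1.symm
  · exact h2.1.symm
  · exact h1.2.symm
  · exact h2.2.symm

/-- **Two transvections with different centres generate a non-solvable group.** -/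
theorem not_solvable_closure (hp5 : 5 ≤ p) (ha : orderOf a = p) (hb : orderOf b = p) (hab : a * b = b * a)
    (hba : b ∉ zpowers a) {u v : K} {m n : ℤ} (hm : ¬ (p : ℤ) ∣ m) (hn : ¬ (p : ℤ) ∣ n) (hua : u * a = a * u)
    (hub : u * b * u⁻¹ = b * a ^ m) (hvb : v * b = b * v) (hva : v * a * v⁻¹ = a * b ^ n) :
    ¬ Group.IsSolvable ↥(closure ({u, v} : Set K)) := by
  intro hs
  have hap : a ^ p = 1 := ha ▸ pow_orderOf_eq_one a
  have hbp : b ^ p = 1 := hb ▸ pow_orderOf_eq_one b
  let SL := SpecialLinearGroup (Fin 2) (ZMod p)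
  let U : SL := up (m : ZMod p)
  let V : SL := lo (n : ZMod p)
  have hU : Act a b u U := by
    constructor
    · show u * a * u⁻¹ = pz a (1 : ZMod p) * pz b (0 : ZMod p)
      rw [hua, pz_one, pz_zero]; group
    · show u * b * u⁻¹ = pz a (m : ZMod p) * pz b (1 : ZMod p)
      rw [hub, pz_one, pz_intCast hap]
      exact ((show Commute a b from hab).zpow_left m).eq.symm
  have hV : Act a b v V := by
    constructor
    · show v * a * v⁻¹ = pz a (1 : ZMod p) * pz b (n : ZMod p)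
      rw [hva, pz_one, pz_intCast hbp]
    · show v * b * v⁻¹ = pz a (0 : ZMod p) * pz b (1 : ZMod p)
      rw [hvb, pz_one, pz_zero]; group
  let R : Subgroup (K × SL) := closure {(u, U), (v, V)}
  have hR : ∀ r ∈ R, Act a b r.1 r.2 := by
    intro r hr
    induction hr using closure_induction with
    | mem r hr =>
      rcases hr with rfl | hr
      · exact hU
      · rw [Set.mem_singleton_iff] at hr
        subst hr
        exact hV
    | one => exact act_one
    | mul r s _ _ h1 h2 => exact h1.mul hap hbp hab h2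
    | inv r _ h1 => exact h1.inv hap hbp hab
  have hRc : ∀ r ∈ R, r.1 ∈ closure ({u, v} : Set K) := by
    intro r hr
    have h1 : R.map (MonoidHom.fst K SL) ≤ closure ({u, v} : Set K) := by
      rw [MonoidHom.map_closure, closure_le]
      rintro _ ⟨s, hs, rfl⟩
      rcases hs with rfl | hs
      · exact subset_closure (by simp)
      · rw [Set.mem_singleton_iff] at hs
        subst hs
        exact subset_closure (by simp)
    exact h1 ⟨r, hr, rfl⟩
  let f : R →* ↥(closure ({u, v} : Set K)) := ((MonoidHom.fst K SL).comp R.subtype).codRestrict _ fun r => hRc r r.2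
  have hf : Function.Injective f := by
    rw [injective_iff_map_eq_one]
    intro r hr
    have h1 : (r : K × SL).1 = 1 := congrArg Subtype.val hr
    have h2 := hR r r.2
    rw [h1] at h2
    have h3 := h2.eq_one ha hb hab hba
    exact Subtype.ext (Prod.ext h1 h3)
  have hRs : Group.IsSolvable R := Group.isSolvable_of_isSolvable_injective hf
  have hsurj : Function.Surjective ((MonoidHom.snd K SL).comp R.subtype) := by
    intro A
    have h1 : A ∈ R.map (MonoidHom.snd K SL) := by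
      have hm0 : (m : ZMod p) ≠ 0 := by rwa [Ne, ZMod.intCast_zmod_eq_zero_iff_dvd]
      have hn0 : (n : ZMod p) ≠ 0 := by rwa [Ne, ZMod.intCast_zmod_eq_zero_iff_dvd]
      have hUm : U ∈ R.map (MonoidHom.snd K SL) := ⟨(u, U), subset_closure (by simp), rfl⟩
      have hVm : V ∈ R.map (MonoidHom.snd K SL) := ⟨(v, V), subset_closure (by simp), rfl⟩
      refine mem_of_up_lo _ ?_ ?_ A
      · intro c
        have h2 : ∀ k : ℕ, U ^ k = up ((k : ZMod p) * m) := by
          intro k
          induction k with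
          | zero => rw [pow_zero, Nat.cast_zero, zero_mul, up_zero]
          | succ k ih => rw [pow_succ, ih, Nat.cast_succ, add_mul, one_mul, up_add]
        have h3 := h2 (c * (m : ZMod p)⁻¹).val
        rw [ZMod.natCast_zmod_val, inv_mul_cancel_right₀ hm0] at h3
        rw [← h3]
        exact pow_mem hUm _
      · intro c
        have h2 : ∀ k : ℕ, V ^ k = lo ((k : ZMod p) * n) := by
          intro k
          induction k with
          | zero =>
            rw [pow_zero, Nat.cast_zero, zero_mul]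
            exact lo_zero'.symm
          | succ k ih =>
            rw [pow_succ, ih, Nat.cast_succ, add_mul, one_mul]
            exact (lo_add' _ _).symm
        have h3 := h2 (c * (n : ZMod p)⁻¹).val
        rw [ZMod.natCast_zmod_val, inv_mul_cancel_right₀ hn0] at h3
        rw [← h3]
        exact pow_mem hVm _
    obtain ⟨r, hr, h2⟩ := h1
    exact ⟨⟨r, hr⟩, h2⟩
  have hSL : Group.IsSolvable SL := Group.isSolvable_of_surjective hsurj
  refine Classification.NGroupExclude.not_isSolvable_sl (ZMod p) ?_ hSL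
  rw [ZMod.card]
  omega

end Act

/-- **`⟨x, q x q⁻¹⟩` is not solvable** -/
theorem not_solvable_pair (hp : p.Prime) (hp5 : 5 ≤ p) {w w₁ x q : K} (hw : orderOf w = p) (hw₁ : orderOf w₁ = p)
    (hww : w * w₁ = w₁ * w) (hne : w₁ ∉ zpowers w) {j k : ℤ} (hj : ¬ (p : ℤ) ∣ j) (hk : ¬ (p : ℤ) ∣ k)
    (hxw : x * w = w * x) (hxw₁ : x * w₁ * x⁻¹ = w₁ * w ^ j) (hqw₁ : q * w₁ = w₁ * q)
    (hqw : q * w * q⁻¹ = w * w₁ ^ k) : ¬ Group.IsSolvable ↥(closure ({x, q * x * q⁻¹} : Set K)) := by
  have : Fact p.Prime := ⟨hp⟩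
  have hwp : w ^ p = 1 := hw ▸ pow_orderOf_eq_one w
  have hw₁p : w₁ ^ p = 1 := hw₁ ▸ pow_orderOf_eq_one w₁
  have c1 : Commute w w₁ := hww
  have hjk : ¬ (p : ℤ) ∣ j * k := by
    intro h
    rcases (Nat.prime_iff_prime_int.1 hp).dvd_or_dvd h with h | h
    · exact hj h
    · exact hk h
  have hb : orderOf (q * w * q⁻¹) = p := by rw [← MulAut.conj_apply, MulEquiv.orderOf_eq, hw]
  refine not_solvable_closure (a := w) (b := q * w * q⁻¹) hp5 hw hb ?_ ?_ (m := j * k) (n := -(j * k)) hjk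
    (by rwa [dvd_neg]) hxw ?_ ?_ ?_
  · rw [hqw]
    exact (c1.mul_right (c1.zpow_right k) |> fun _ => ((Commute.refl w).mul_right (c1.zpow_right k))).eq
  · rw [hqw]
    intro h1
    apply hne
    have h2 : w₁ ^ k ∈ zpowers w := by
      have := mul_mem (inv_mem (mem_zpowers w)) h1
      rwa [inv_mul_cancel_left] at this
    -- `k` is invertible modulo `p`
    have h3 : IsCoprime (p : ℤ) k := (Nat.prime_iff_prime_int.1 hp).coprime_iff_not_dvd.2 hk
    obtain ⟨s, t, hst⟩ := h3
    have h4 : w₁ = (w₁ ^ k) ^ t := by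
      rw [← zpow_mul]
      have h5 : k * t = 1 + p * (-s) := by linear_combination hst
      rw [h5, zpow_add, zpow_mul, zpow_natCast, hw₁p, one_zpow, mul_one, zpow_one]
    rw [h4]
    exact zpow_mem h2 t
  · -- `x b x⁻¹ = b a ^ (j k)`
    rw [hqw]
    have e1 : x * (w * w₁ ^ k) * x⁻¹ = (x * w * x⁻¹) * (x * w₁ * x⁻¹) ^ k := by
      rw [conj_zpow]; group
    have c2 : Commute w₁ (w ^ j) := (c1.zpow_left j).symm
    rw [e1, hxw, mul_inv_cancel_right, hxw₁, c2.mul_zpow, ← zpow_mul, mul_assoc]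
  · -- `x' b = b x'`
    have : q * x * q⁻¹ * (q * w * q⁻¹) = q * (x * w) * q⁻¹ := by group
    rw [this, hxw]
    group
  · -- `x' a x'⁻¹ = a b ^ (- j k)`
    have e1 : q * x * q⁻¹ * w₁ * (q * x * q⁻¹)⁻¹ = w₁ * (q * w * q⁻¹) ^ j := by
      have e2 : q * x * q⁻¹ * w₁ * (q * x * q⁻¹)⁻¹ = q * (x * (q⁻¹ * w₁ * q) * x⁻¹) * q⁻¹ := by group
      have e3 : q⁻¹ * w₁ * q = w₁ := by rw [mul_assoc, ← hqw₁, inv_mul_cancel_left]
      have e4 : q * (w₁ * w ^ j) * q⁻¹ = (q * w₁ * q⁻¹) * (q * w * q⁻¹) ^ j := by rw [conj_zpow]; group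
      rw [e2, e3, hxw₁, e4, hqw₁, mul_inv_cancel_right]
    have e5 : w = (q * w * q⁻¹) * w₁ ^ (-k) := by rw [hqw, mul_assoc, ← zpow_add, add_neg_cancel, zpow_zero, mul_one]
    have e6 : q * x * q⁻¹ * (q * w * q⁻¹) * (q * x * q⁻¹)⁻¹ = q * w * q⁻¹ := by
      have : q * x * q⁻¹ * (q * w * q⁻¹) * (q * x * q⁻¹)⁻¹ = q * (x * w * x⁻¹) * q⁻¹ := by group
      rw [this, hxw, mul_inv_cancel_right]
    have c3 : Commute w₁ ((q * w * q⁻¹) ^ j) := by
      rw [hqw]
      exact ((c1.symm).mul_right ((Commute.refl w₁).zpow_right k)).zpow_right j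
    have e7 : q * x * q⁻¹ * ((q * w * q⁻¹) * w₁ ^ (-k)) * (q * x * q⁻¹)⁻¹ =
        (q * x * q⁻¹ * (q * w * q⁻¹) * (q * x * q⁻¹)⁻¹) * (q * x * q⁻¹ * w₁ * (q * x * q⁻¹)⁻¹) ^ (-k) := by
      rw [conj_zpow]; group
    conv_lhs => rw [e5]
    rw [e7, e6, e1, c3.mul_zpow, ← zpow_mul, ← mul_assoc, ← e5]
    congr 2
    ring

end Cfsg.Agent.H839.Rad
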