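import Cfsg.Agent.H839.Rad.Center

/-!
# Extraspecial groups `p ^ (1 + 4)` given by generators (helper839, for S3829)

`Ext p w a b c d` : `w, a, b, c, d` have exponent `p`, `[a, b] = [c, d] = w` central, all other pairs commute;
`Ext.Q` the subgroup of all `nf i j k l m = a ^ i b ^ j c ^ k d ^ l w ^ m`; `comm_iff` : commutation in terms of the exponents;
`isPGroup`, `pow_dvd_card` : `Q` is a `p`-group of order at least `p ^ 5`.
-/

set_option autoImplicit false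

namespace Cfsg.Agent.H839.Rad

open Subgroup

variable {K : Type*} [Group K] {p : ℕ}

/-- commuting powers -/
theorem zpow_comm_zpow {a b w : K} (hab : a * b = b * a * w) (hwa : w * a = a * w) (hwb : w * b = b * w) (i j : ℤ) :
    a ^ i * b ^ j = b ^ j * a ^ i * w ^ (i * j) := by
  have cwa : Commute w a := hwa
  have cwb : Commute w b := hwb
  have h1 : a * b * a⁻¹ = b * w := by
    rw [hab, mul_assoc b a w, ← hwa]
    group
  have h2 : a * b ^ j * a⁻¹ = b ^ j * w ^ j := by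
    rw [← conj_zpow, h1, cwb.symm.mul_zpow]
  have h3 : (b ^ j)⁻¹ * a * b ^ j = a * w ^ j := by
    have h4 : a * b ^ j = b ^ j * w ^ j * a := by
      rw [← h2]; group
    rw [mul_assoc, h4, mul_assoc, inv_mul_cancel_left, (cwa.zpow_left j).eq]
  have h5 : (b ^ j)⁻¹ * a ^ i * b ^ j = a ^ i * w ^ (i * j) := by
    have h6 : (b ^ j)⁻¹ * a ^ i * b ^ j = ((b ^ j)⁻¹ * a * ((b ^ j)⁻¹)⁻¹) ^ i := by
      rw [conj_zpow, inv_inv]
    rw [h6, inv_inv, h3, ((cwa.zpow_left j).symm).mul_zpow, ← zpow_mul, mul_comm j i]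
  calc a ^ i * b ^ j = b ^ j * ((b ^ j)⁻¹ * a ^ i * b ^ j) := by group
    _ = b ^ j * a ^ i * w ^ (i * j) := by rw [h5, mul_assoc]

/-- the relations -/
structure Ext (p : ℕ) (w a b c d : K) : Prop where
  hw : orderOf w = p
  ha : a ^ p = 1
  hb : b ^ p = 1
  hc : c ^ p = 1
  hd : d ^ p = 1
  wa : w * a = a * w
  wb : w * b = b * w
  wc : w * c = c * w
  wd : w * d = d * w
  ab : a * b = b * a * w
  cd : c * d = d * c * w
  ac : a * c = c * a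
  ad : a * d = d * a
  bc : b * c = c * b
  bd : b * d = d * b

namespace Ext

/-- the normal form -/
def nf (w a b c d : K) (i j k l m : ℤ) : K := a ^ i * b ^ j * c ^ k * d ^ l * w ^ m

variable {w a b c d : K}

theorem nf_mul (E : Ext p w a b c d) (i j k l m i' j' k' l' m' : ℤ) :
    nf w a b c d i j k l m * nf w a b c d i' j' k' l' m' =
      nf w a b c d (i + i') (j + j') (k + k') (l + l') (m + m' - i' * j - k' * l) := by
  unfold nf
  have wa : Commute w a := E.wa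
  have wb : Commute w b := E.wb
  have wc : Commute w c := E.wc
  have wd : Commute w d := E.wd
  have ac : Commute a c := E.ac
  have ad : Commute a d := E.ad
  have bc : Commute b c := E.bc
  have bd : Commute b d := E.bd
  -- `b ^ j a ^ i' = a ^ i' b ^ j w ^ (- i' j)`
  have e1 : b ^ j * a ^ i' = a ^ i' * b ^ j * w ^ (-(i' * j)) := by
    rw [zpow_comm_zpow E.ab E.wa E.wb i' j, mul_assoc _ (w ^ _), ← zpow_add, add_neg_cancel, zpow_zero, mul_one]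
  have e2 : d ^ l * c ^ k' = c ^ k' * d ^ l * w ^ (-(k' * l)) := by
    rw [zpow_comm_zpow E.cd E.wc E.wd k' l, mul_assoc _ (w ^ _), ← zpow_add, add_neg_cancel, zpow_zero, mul_one]
  have c1 : Commute (c ^ k * d ^ l * w ^ m) (a ^ i') :=
    (((ac.symm.zpow_zpow k i').mul_left (ad.symm.zpow_zpow l i')).mul_left (wa.zpow_zpow m i'))
  have c2 : Commute (c ^ k * d ^ l * w ^ m) (b ^ j') :=
    (((bc.symm.zpow_zpow k j').mul_left (bd.symm.zpow_zpow l j')).mul_left (wb.zpow_zpow m j'))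
  have c3 : Commute (w ^ m) (c ^ k' * d ^ l') := (wc.zpow_zpow m k').mul_right (wd.zpow_zpow m l')
  have c4 : ∀ n : ℤ, Commute (w ^ n) (b ^ j' * c ^ k) := fun n => (wb.zpow_zpow n j').mul_right (wc.zpow_zpow n k)
  have c5 : ∀ n : ℤ, Commute (w ^ n) (d ^ l') := fun n => wd.zpow_zpow n l'
  have c6 : ∀ n : ℤ, Commute (w ^ n) (c ^ k' * d ^ l) := fun n => (wc.zpow_zpow n k').mul_right (wd.zpow_zpow n l)
  calc a ^ i * b ^ j * c ^ k * d ^ l * w ^ m * (a ^ i' * b ^ j' * c ^ k' * d ^ l' * w ^ m')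
      = a ^ i * b ^ j * ((c ^ k * d ^ l * w ^ m) * a ^ i') * b ^ j' * c ^ k' * d ^ l' * w ^ m' := by group
    _ = a ^ i * (b ^ j * a ^ i') * ((c ^ k * d ^ l * w ^ m) * b ^ j') * c ^ k' * d ^ l' * w ^ m' := by
        rw [c1.eq]; group
    _ = a ^ i * (b ^ j * a ^ i') * b ^ j' * c ^ k * d ^ l * (w ^ m * (c ^ k' * d ^ l')) * w ^ m' := by
        rw [c2.eq]; group
    _ = a ^ i * (b ^ j * a ^ i') * b ^ j' * c ^ k * (d ^ l * c ^ k') * d ^ l' * w ^ (m + m') := by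
        rw [c3.eq]; group
    _ = a ^ i * a ^ i' * b ^ j * (w ^ (-(i' * j)) * (b ^ j' * c ^ k)) * (c ^ k' * d ^ l) * (w ^ (-(k' * l)) * d ^ l') *
        w ^ (m + m') := by rw [e1, e2]; group
    _ = a ^ i * a ^ i' * b ^ j * (b ^ j' * c ^ k) * (w ^ (-(i' * j)) * (c ^ k' * d ^ l)) * (d ^ l' * w ^ (-(k' * l))) *
        w ^ (m + m') := by rw [(c4 _).eq, (c5 _).eq]; group
    _ = a ^ i * a ^ i' * b ^ j * (b ^ j' * c ^ k) * (c ^ k' * d ^ l) * (w ^ (-(i' * j)) * d ^ l') * w ^ (-(k' * l)) *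
        w ^ (m + m') := by rw [(c6 _).eq]; group
    _ = (a ^ i * a ^ i') * (b ^ j * b ^ j') * (c ^ k * c ^ k') * (d ^ l * d ^ l') * (w ^ (-(i' * j)) * w ^ (-(k' * l)) *
        w ^ (m + m')) := by rw [(c5 _).eq]; group
    _ = _ := by
        rw [← zpow_add, ← zpow_add, ← zpow_add, ← zpow_add, ← zpow_add, ← zpow_add]
        congr 2
        ring

theorem nf_zero : nf w a b c d 0 0 0 0 0 = 1 := by simp [nf]

/-- the subgroup -/
def Q (E : Ext p w a b c d) : Subgroup K where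
  carrier := {x | ∃ i j k l m : ℤ, x = nf w a b c d i j k l m}
  mul_mem' := by
    rintro _ _ ⟨i, j, k, l, m, rfl⟩ ⟨i', j', k', l', m', rfl⟩
    exact ⟨_, _, _, _, _, E.nf_mul i j k l m i' j' k' l' m'⟩
  one_mem' := ⟨0, 0, 0, 0, 0, nf_zero.symm⟩
  inv_mem' := by
    rintro _ ⟨i, j, k, l, m, rfl⟩
    refine ⟨-i, -j, -k, -l, -m - i * j - k * l, ?_⟩
    rw [inv_eq_iff_mul_eq_one, E.nf_mul, ← nf_zero (w := w) (a := a) (b := b) (c := c) (d := d)]
    congr 1 <;> ring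

theorem mem_Q (E : Ext p w a b c d) {x : K} : x ∈ E.Q ↔ ∃ i j k l m : ℤ, x = nf w a b c d i j k l m := Iff.rfl

theorem nf_mem (E : Ext p w a b c d) (i j k l m : ℤ) : nf w a b c d i j k l m ∈ E.Q := ⟨i, j, k, l, m, rfl⟩

theorem wpow_mem (E : Ext p w a b c d) (m : ℤ) : w ^ m ∈ E.Q := ⟨0, 0, 0, 0, m, by simp [nf]⟩
theorem w_mem (E : Ext p w a b c d) : w ∈ E.Q := by simpa using E.wpow_mem 1
theorem a_mem (E : Ext p w a b c d) : a ∈ E.Q := ⟨1, 0, 0, 0, 0, by simp [nf]⟩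
theorem b_mem (E : Ext p w a b c d) : b ∈ E.Q := ⟨0, 1, 0, 0, 0, by simp [nf]⟩
theorem c_mem (E : Ext p w a b c d) : c ∈ E.Q := ⟨0, 0, 1, 0, 0, by simp [nf]⟩
theorem d_mem (E : Ext p w a b c d) : d ∈ E.Q := ⟨0, 0, 0, 1, 0, by simp [nf]⟩

/-- `Q` is generated by `a, b, c, d, w` -/
theorem Q_le (E : Ext p w a b c d) {H : Subgroup K} (ha : a ∈ H) (hb : b ∈ H) (hc : c ∈ H) (hd : d ∈ H) (hw : w ∈ H) :
    E.Q ≤ H := by
  rintro _ ⟨i, j, k, l, m, rfl⟩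
  exact mul_mem (mul_mem (mul_mem (mul_mem (zpow_mem ha i) (zpow_mem hb j)) (zpow_mem hc k)) (zpow_mem hd l)) (zpow_mem hw m)

/-- conjugation by `g` maps `Q` to `Q` if it maps the generators into `Q` -/
theorem conj_mem (E : Ext p w a b c d) {g : K} {H : Subgroup K} (ha : g * a * g⁻¹ ∈ H) (hb : g * b * g⁻¹ ∈ H)
    (hc : g * c * g⁻¹ ∈ H) (hd : g * d * g⁻¹ ∈ H) (hw : g * w * g⁻¹ ∈ H) : ∀ x ∈ E.Q, g * x * g⁻¹ ∈ H := by
  intro x hx
  have h1 : E.Q ≤ H.comap (MulAut.conj g).toMonoidHom := E.Q_le ha hb hc hd hw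
  exact h1 hx

/-- all elements of `Q` commute with `w` -/
theorem comm_w (E : Ext p w a b c d) : ∀ x ∈ E.Q, x * w = w * x := by
  intro x hx
  have h1 : E.Q ≤ centralizer ({w} : Set K) := E.Q_le (mem_centralizer_singleton_iff.2 E.wa.symm)
    (mem_centralizer_singleton_iff.2 E.wb.symm) (mem_centralizer_singleton_iff.2 E.wc.symm)
    (mem_centralizer_singleton_iff.2 E.wd.symm) (mem_centralizer_singleton_iff.2 rfl)
  exact mem_centralizer_singleton_iff.1 (h1 hx)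

theorem nf_mul_comm (E : Ext p w a b c d) (i j k l m i' j' k' l' m' : ℤ) :
    nf w a b c d i j k l m * nf w a b c d i' j' k' l' m' =
      w ^ (i * j' - i' * j + k * l' - k' * l) * (nf w a b c d i' j' k' l' m' * nf w a b c d i j k l m) := by
  rw [E.nf_mul, E.nf_mul]
  have h1 : ∀ e : ℤ, w ^ e = nf w a b c d 0 0 0 0 e := fun e => by simp [nf]
  rw [h1, E.nf_mul]
  congr 1 <;> ring

theorem comm_iff (E : Ext p w a b c d) {i j k l m i' j' k' l' m' : ℤ} :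
    nf w a b c d i j k l m * nf w a b c d i' j' k' l' m' = nf w a b c d i' j' k' l' m' * nf w a b c d i j k l m ↔
      (p : ℤ) ∣ i * j' - i' * j + k * l' - k' * l := by
  rw [E.nf_mul_comm, mul_eq_right, ← orderOf_dvd_iff_zpow_eq_one, E.hw]

theorem commutator_mem (E : Ext p w a b c d) : ∀ x ∈ E.Q, ∀ y ∈ E.Q, x * y * x⁻¹ * y⁻¹ ∈ zpowers w := by
  rintro _ ⟨i, j, k, l, m, rfl⟩ _ ⟨i', j', k', l', m', rfl⟩
  rw [E.nf_mul_comm]
  refine mem_zpowers_iff.2 ⟨i * j' - i' * j + k * l' - k' * l, ?_⟩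
  group

/-- exponents divisible by `p` -/
theorem nf_mem_zpowers (E : Ext p w a b c d) {i j k l m : ℤ} (hi : (p : ℤ) ∣ i) (hj : (p : ℤ) ∣ j) (hk : (p : ℤ) ∣ k)
    (hl : (p : ℤ) ∣ l) : nf w a b c d i j k l m ∈ zpowers w := by
  obtain ⟨i, rfl⟩ := hi
  obtain ⟨j, rfl⟩ := hj
  obtain ⟨k, rfl⟩ := hk
  obtain ⟨l, rfl⟩ := hl
  unfold nf
  rw [zpow_mul, zpow_mul, zpow_mul, zpow_mul, zpow_natCast, zpow_natCast, zpow_natCast, zpow_natCast, E.ha, E.hb, E.hc,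
    E.hd]
  simp only [one_zpow, one_mul]
  exact zpow_mem (mem_zpowers w) m

/-- elements commuting with `a, b, c, d` -/
theorem center (E : Ext p w a b c d) {x : K} (hx : x ∈ E.Q) (h : ∀ y ∈ E.Q, x * y = y * x) : x ∈ zpowers w := by
  obtain ⟨i, j, k, l, m, rfl⟩ := hx
  have h1 := E.comm_iff.1 (h _ (E.nf_mem 1 0 0 0 0))
  have h2 := E.comm_iff.1 (h _ (E.nf_mem 0 1 0 0 0))
  have h3 := E.comm_iff.1 (h _ (E.nf_mem 0 0 1 0 0))
  have h4 := E.comm_iff.1 (h _ (E.nf_mem 0 0 0 1 0))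
  refine E.nf_mem_zpowers ?_ ?_ ?_ ?_
  · simpa using h2
  · simpa using h1
  · simpa using h4
  · simpa using h3

theorem nf_pow (E : Ext p w a b c d) (i j k l m : ℤ) (n : ℕ) : ∃ e : ℤ, 2 * e = n * (n - 1) ∧
    nf w a b c d i j k l m ^ n = nf w a b c d (n * i) (n * j) (n * k) (n * l) (n * m - e * (i * j + k * l)) := by
  induction n with
  | zero => exact ⟨0, by simp, by simp [nf]⟩
  | succ n ih =>
    obtain ⟨e, he, h⟩ := ih
    refine ⟨e + n, by push_cast; linear_combination he, ?_⟩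
    rw [pow_succ, h, E.nf_mul]
    push_cast
    congr 1 <;> ring

theorem pow_eq_one (E : Ext p w a b c d) (hp : Odd p) : ∀ x ∈ E.Q, x ^ p = 1 := by
  rintro _ ⟨i, j, k, l, m, rfl⟩
  obtain ⟨e, he, h⟩ := E.nf_pow i j k l m p
  obtain ⟨q, hq⟩ := hp
  have he' : e = p * q := by
    have h1 : (p : ℤ) = 2 * q + 1 := by exact_mod_cast hq
    have h2 : 2 * e = 2 * (p * q) := by rw [he, h1]; ring
    linarith
  have hw : w ^ p = 1 := by rw [← E.hw, pow_orderOf_eq_one]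
  rw [h, he']
  unfold nf
  have h3 : (p : ℤ) * m - p * q * (i * j + k * l) = p * (m - q * (i * j + k * l)) := by ring
  rw [h3, zpow_mul, zpow_mul, zpow_mul, zpow_mul, zpow_mul, zpow_natCast, zpow_natCast, zpow_natCast, zpow_natCast,
    zpow_natCast, E.ha, E.hb, E.hc, E.hd, hw]
  simp

theorem isPGroup (E : Ext p w a b c d) (hp : Odd p) : IsPGroup p ↥E.Q := by
  intro x
  exact ⟨1, Subtype.ext (by rw [pow_one]; exact E.pow_eq_one hp x x.2)⟩

/-- `p ^ 5 ≤ |Q|` -/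
theorem le_card [Finite K] (E : Ext p w a b c d) : p ^ 5 ≤ Nat.card ↥E.Q := by
  let f : (Fin p × Fin p × Fin p × Fin p × Fin p) → ↥E.Q := fun t =>
    ⟨nf w a b c d (t.1 : ℕ) (t.2.1 : ℕ) (t.2.2.1 : ℕ) (t.2.2.2.1 : ℕ) (t.2.2.2.2 : ℕ), E.nf_mem _ _ _ _ _⟩
  have hf : Function.Injective f := by
    rintro ⟨i, j, k, l, m⟩ ⟨i', j', k', l', m'⟩ h
    have h0 : nf w a b c d (i : ℕ) (j : ℕ) (k : ℕ) (l : ℕ) (m : ℕ) =
        nf w a b c d (i' : ℕ) (j' : ℕ) (k' : ℕ) (l' : ℕ) (m' : ℕ) := congrArg Subtype.val h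
    have key2 : ∀ r s t u : ℤ, (p : ℤ) ∣ (((i : ℕ) : ℤ) - (i' : ℕ)) * s - r * (((j : ℕ) : ℤ) - (j' : ℕ)) +
        (((k : ℕ) : ℤ) - (k' : ℕ)) * u - t * (((l : ℕ) : ℤ) - (l' : ℕ)) := by
      intro r s t u
      have e1 := E.nf_mul_comm (i : ℕ) (j : ℕ) (k : ℕ) (l : ℕ) (m : ℕ) r s t u 0
      have e2 := E.nf_mul_comm (i' : ℕ) (j' : ℕ) (k' : ℕ) (l' : ℕ) (m' : ℕ) r s t u 0
      rw [h0, e2] at e1
      have e3 := mul_right_cancel e1
      have e4 : w ^ ((((i : ℕ) : ℤ) - (i' : ℕ)) * s - r * (((j : ℕ) : ℤ) - (j' : ℕ)) +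
        (((k : ℕ) : ℤ) - (k' : ℕ)) * u - t * (((l : ℕ) : ℤ) - (l' : ℕ))) = 1 := by
        have e5 : (((i : ℕ) : ℤ) - (i' : ℕ)) * s - r * (((j : ℕ) : ℤ) - (j' : ℕ)) +
          (((k : ℕ) : ℤ) - (k' : ℕ)) * u - t * (((l : ℕ) : ℤ) - (l' : ℕ)) =
          ((i : ℕ) * s - r * (j : ℕ) + (k : ℕ) * u - t * (l : ℕ)) -
            ((i' : ℕ) * s - r * (j' : ℕ) + (k' : ℕ) * u - t * (l' : ℕ)) := by ring
        rw [e5, zpow_sub, ← e3, mul_inv_cancel]
      have e6 := orderOf_dvd_iff_zpow_eq_one.2 e4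
      rwa [E.hw] at e6
    have eqv : ∀ x y : Fin p, (p : ℤ) ∣ ((x : ℕ) : ℤ) - (y : ℕ) → x = y := by
      intro x y hxy
      have h1 : ((x : ℕ) : ℤ) - (y : ℕ) = 0 := by
        apply Int.eq_zero_of_abs_lt_dvd hxy
        have h2 := x.2
        have h3 := y.2
        rw [abs_lt]
        omega
      exact Fin.ext (by omega)
    have e1 : i = i' := eqv _ _ (by simpa using key2 0 1 0 0)
    have e2 : j = j' := eqv _ _ (by simpa using key2 (-1) 0 0 0)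
    have e3 : k = k' := eqv _ _ (by simpa using key2 0 0 0 1)
    have e4 : l = l' := eqv _ _ (by simpa using key2 0 0 (-1) 0)
    subst e1 e2 e3 e4
    have h5 : w ^ (((m : ℕ) : ℤ)) = w ^ (((m' : ℕ) : ℤ)) := mul_left_cancel h0
    have e5 : m = m' := by
      apply eqv
      have h6 : w ^ ((((m : ℕ) : ℤ)) - (m' : ℕ)) = 1 := by rw [zpow_sub, h5, mul_inv_cancel]
      have h7 := orderOf_dvd_iff_zpow_eq_one.2 h6
      rwa [E.hw] at h7
    rw [e5]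
  have h1 := Nat.card_le_card_of_injective f hf
  simp only [Nat.card_prod, Nat.card_fin] at h1
  calc p ^ 5 = p * (p * (p * (p * p))) := by ring
    _ ≤ _ := h1

theorem pow_dvd_card [Finite K] (E : Ext p w a b c d) (hp : p.Prime) (h2 : Odd p) : p ^ 5 ∣ Nat.card ↥E.Q := by
  have : Fact p.Prime := ⟨hp⟩
  obtain ⟨n, hn⟩ := IsPGroup.iff_card.1 (E.isPGroup h2)
  have h1 := E.le_card
  rw [hn] at h1 ⊢
  exact pow_dvd_pow p ((Nat.pow_le_pow_iff_right hp.one_lt).1 h1)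

end Ext

/-- in a finite group: `c` normalises `Q` -/
theorem mem_normalizer_of [Finite K] {Q : Subgroup K} {c : K} (h : ∀ a ∈ Q, c * a * c⁻¹ ∈ Q) :
    c ∈ normalizer (Q : Set K) := by
  rw [mem_normalizer_iff]
  intro a
  refine ⟨fun ha => h a ha, fun ha => ?_⟩
  have h3 := inv_conj_mem c h _ ha
  have h4 : c⁻¹ * (c * a * c⁻¹) * c = a := by group
  rwa [h4] at h3

/-- the configuration `Centre` for `Q = p ^ (1 + 4)` -/
theorem centre_of_ext {w a b c d g : K} (E : Ext p w a b c d) (hga : g * a * g⁻¹ = w) (h1 : g * w * g⁻¹ ∈ E.Q)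
    (h1' : g * w * g⁻¹ ∉ zpowers w)
    (hirr : ∀ x ∈ E.Q, (∀ t : K, t * w = w * t → (∀ a ∈ E.Q, t * a * t⁻¹ ∈ E.Q) →
      x * (t * (g * w * g⁻¹) * t⁻¹) = t * (g * w * g⁻¹) * t⁻¹ * x) → x ∈ zpowers w) :
    Centre p w (g * w * g⁻¹) g E.Q := by
  have hwa : g⁻¹ * w * g = a := by rw [← hga]; group
  exact ⟨E.hw, E.w_mem, E.comm_w, E.commutator_mem, rfl, h1, h1', by rw [hwa]; exact E.a_mem, hirr⟩

/-- `C(w) ∩ g Q g⁻¹` normalises `Q` -/
theorem norm_of_ext [Finite K] {w a b c d g : K} (E : Ext p w a b c d) (hga : g * a * g⁻¹ = w)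
    (h1 : g * w * g⁻¹ ∈ E.Q) (hgc : g * c * g⁻¹ ∈ E.Q)
    (hgd : ∀ y ∈ E.Q, g * d * g⁻¹ * y * (g * d * g⁻¹)⁻¹ ∈ E.Q) (e : K) (he : g⁻¹ * e * g ∈ E.Q) (hew : e * w = w * e) :
    ∀ a ∈ E.Q, e * a * e⁻¹ ∈ E.Q := by
  have hwa : g⁻¹ * w * g = a := by rw [← hga]; group
  obtain ⟨i, j, k, l, m, hnf⟩ := he
  -- `g⁻¹ e g` commutes with `a`
  have h3 : (g⁻¹ * e * g) * a = a * (g⁻¹ * e * g) := by
    rw [← hwa]
    calc g⁻¹ * e * g * (g⁻¹ * w * g) = g⁻¹ * (e * w) * g := by group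
      _ = g⁻¹ * (w * e) * g := by rw [hew]
      _ = _ := by group
  have h4 : (p : ℤ) ∣ j := by
    rw [hnf] at h3
    have h5 : a = Ext.nf w a b c d 1 0 0 0 0 := by simp [Ext.nf]
    have h6 : Ext.nf w a b c d i j k l m * Ext.nf w a b c d 1 0 0 0 0 =
        Ext.nf w a b c d 1 0 0 0 0 * Ext.nf w a b c d i j k l m := by rw [← h5]; exact h3
    simpa using E.comm_iff.1 h6
  obtain ⟨j, rfl⟩ := h4
  have h5 : e = w ^ i * (g * c * g⁻¹) ^ k * (g * d * g⁻¹) ^ l * (g * w * g⁻¹) ^ m := by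
    have h6 : e = g * (g⁻¹ * e * g) * g⁻¹ := by group
    rw [h6, hnf]
    unfold Ext.nf
    rw [zpow_mul, zpow_natCast, E.hb, one_zpow, mul_one]
    conv_rhs => rw [← hga]
    rw [conj_zpow, conj_zpow, conj_zpow, hga]
    have h7 : (g * w * g⁻¹) ^ m = g * w ^ m * g⁻¹ := conj_zpow
    rw [h7]
    group
  have hN : ∀ x ∈ E.Q, x ∈ normalizer (E.Q : Set K) := fun x hx => le_normalizer hx
  have h6 : e ∈ normalizer (E.Q : Set K) := by
    rw [h5]
    exact mul_mem (mul_mem (mul_mem (hN _ (E.wpow_mem i)) (zpow_mem (hN _ hgc) k))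
      (zpow_mem (mem_normalizer_of hgd) l)) (zpow_mem (hN _ h1) m)
  exact fun a ha => (mem_normalizer_iff.1 h6 a).1 ha

/-- **The criterion for `Q = p ^ (1 + 4)` of index at most `p` in a Sylow subgroup** -/
theorem noRad_of_ext [Finite K] {w a b c d g : K} (hp : p.Prime) (hp5 : 5 ≤ p) (hK : center K = ⊥)
    (E : Ext p w a b c d) (hga : g * a * g⁻¹ = w) (h1 : g * w * g⁻¹ ∈ E.Q) (h1' : g * w * g⁻¹ ∉ zpowers w)
    (hgc : g * c * g⁻¹ ∈ E.Q) (hgd : ∀ y ∈ E.Q, g * d * g⁻¹ * y * (g * d * g⁻¹)⁻¹ ∈ E.Q)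
    (hirr : ∀ x ∈ E.Q, (∀ t : K, t * w = w * t → (∀ a ∈ E.Q, t * a * t⁻¹ ∈ E.Q) →
      x * (t * (g * w * g⁻¹) * t⁻¹) = t * (g * w * g⁻¹) * t⁻¹ * x) → x ∈ zpowers w)
    (hcard : ¬ p ^ 7 ∣ Nat.card K) : NoRad p K := by
  have h2 : Odd p := hp.odd_of_ne_two (by omega)
  refine (centre_of_ext E hga h1 h1' hirr).noRad_of_index hp hp5 hK (E.isPGroup h2) ?_ ?_
    (norm_of_ext E hga h1 hgc hgd)
  · intro h3
    apply hcard
    refine Dvd.dvd.trans ?_ h3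
    rw [show (7 : ℕ) = 2 + 5 from rfl, pow_add]
    exact mul_dvd_mul_left _ (E.pow_dvd_card hp h2)
  · exact (Nat.pow_le_pow_right hp.pos (by norm_num)).trans E.le_card

end Cfsg.Agent.H839.Rad
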