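import Cfsg.Agent.H839.Rad.Extra
import Cfsg.Agent.HN.A12Group
import Cfsg.Agent.S1701
import Cfsg.Agent.KFacts.HN.Classes
import Cfsg.Agent.H839.Rad.SegS
import Cfsg.Agent.H839.Rad.HNLit

/-!
# Radical elements of order 5 in the Harada-Norton group: matrices (helper839, for S3829)

The generators `A, B, C₁, D` of the extraspecial group `Q = 5 ^ (1 + 4)` with centre `⟨W⟩`, an element `G` with `G⁻¹ W G = A`
and `G W G⁻¹ ∈ Q`, the elements `τ`, `k` of `C(W) ∩ N(Q)`; everything is checked in the 133-dimensional representation over the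
field with 31 elements (`sound`).
-/

set_option autoImplicit false
set_option maxRecDepth 100000
set_option Elab.async false

namespace Cfsg.Agent.H839.Rad.HN

open Cfsg.Agent.Lib.PackMat Cfsg.Agent.Lib.PackMatGroup Cfsg.Agent.Lib.PackMatMul Cfsg.Agent.HN.RepData
open Cfsg.Agent.HN.Rep (L LG gens rho)
open Cfsg.Agent.HN Cfsg.Agent.H839.Rad.Ext

/-- the straight line program -/
def prog : List (ℕ × List ℕ) := [
  (0, [1]),
  (1, [5, 4, 5, 2, 4, 5, 1, 4, 3, 5, 3, 2, 5, 4, 4, 2, 3, 5, 1, 4, 5, 3, 5]),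
  (3, [6, 5, 6, 6, 5, 2, 5, 5, 6, 2, 2]),
  (1, [1]),
  (0, [0]),
  (2, [2]),
  (0, [0]),
  (2, [0, 5, 4]),
  (12, [11, 9, 10, 10, 12, 11, 11, 8, 10, 8]),
  (11, [9, 11, 15]),
  (17, [13, 11, 13]),
  (2, [0, 2, 1]),
  (0, [0]),
  (0, [0]),
  (4, [0]),
  (1, [3, 4]),
  (16, [16]),
  (2, [0, 1]),
  (0, [10]),
  (0, [0]),
  (0, [0, 1]),
  (0, [0, 0]),
  (1, [20, 0]),
  (0, [0]),
  (22, [22, 17, 1]),
  (29, [27, 27, 29, 25, 27, 29, 25, 28, 25, 27]),
  (0, [0]),
  (0, [0, 1]),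
  (35, [35, 0, 34, 34]),
  (20, [0]),
  (0, [0]),
  (0, [0]),
  (0, [0, 39, 39]),
  (39, [39, 1, 2, 3]),
  (40, [25, 41, 25, 40]),
  (42, [26, 41, 26, 42]),
  (38, [27, 39, 27, 38]),
  (40, [28, 39, 28, 40]),
  (4, [3, 1, 3, 38, 0]),
  (2, [40, 3, 1, 3, 6]),
  (0, [32, 1]),
  (2, [33, 1]),
  (3, [40, 2]),
  (2, [2]),
  (20, [20]),
  (20, [20]),
  (38, [38]),
  (8, [7]),
  (1, [1, 40]),
  (4, [4, 25]),
  (4, [4, 25]),
  (47, [47, 49]),
  (11, [28]),
  (29, [12, 45]),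
  (29, [52]),
  (53, [30, 47]),
  (15, [31]),
  (32, [16]),
  (17, [56]),
  (57, [18]),
  (36, [35]),
  (36, [37]),
  (38, [60]),
  (61, [39]),
  (56, [23]),
  (24, [57]),
  (58, [42]),
  (43, [59]),
  (60, [43]),
  (44, [61]),
  (62, [68]),
  (69, [63]),
  (55, [64]),
  (65, [56]),
  (53, [66]),
  (67, [54]),
  (32, [35, 31, 52, 72, 68]),
  (38, [52, 37]),
  (34, [34, 33, 32, 74, 70]),
  (36, [38]),
  (34, [34, 76, 76, 72, 37]),
  (38, [57]),
  (58, [78, 78, 35, 39]),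
  (40, [58]),
  (40, [40, 60, 38, 38, 80, 80, 41]),
  (42, [83]),
  (42, [42, 40, 40, 82, 82, 39, 78, 43]),
  (70, [46]),
  (44, [44, 86, 71]),
  (72, [65]),
  (45, [45, 73]),
  (74, [66]),
  (47, [47, 67, 75]),
  (76, [91]),
  (92, [77]),
  (78, [53]),
  (52, [51, 88, 79]),
  (76, [56]),
  (53, [74, 52, 94, 94, 51, 51, 77]),
  (78, [75]),
  (96, [98, 79]),
  (80, [76]),
  (58, [57, 57, 98, 100, 55, 81]),
  (82, [101]),
  (59, [80, 83]),
  (84, [63]),
  (81, [104, 59, 59, 85]),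
  (90, [86, 65]),
  (63, [63, 83, 106, 61, 61, 91, 87])]

/-- the equalities -/
def es : List (ℕ × ℕ) := [(61, 108), (60, 108), (59, 108), (58, 108), (57, 108), (56, 55), (54, 53), (52, 51), (50, 49), (48, 47), (46, 45), (44, 43), (42, 41), (40, 39), (38, 37), (36, 35), (34, 33), (67, 32), (31, 30), (29, 28), (27, 26), (25, 24), (23, 22), (21, 20), (19, 18), (17, 16), (15, 14), (13, 12), (11, 10), (9, 8), (7, 6), (5, 4), (3, 2), (1, 0)]

/-- the inequality -/
def ns : List (ℕ × ℕ) := [(101, 108)]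

/-! ### The check in five segments

The memory of a kernel check grows with the number of products.  `w1`, ..., `w5`: the segments of `prog`;
`M1`, ..., `M4`: the results needed after the segments (at the positions `q1`, ..., `q4`; the other entries are `0`). -/

namespace Seg

open Cfsg.Agent.H839.SegS Cfsg.Agent.H839.Rad.HNLit

/-- segment 1 -/
def w1 : List (ℕ × List ℕ) := [
  (0, [1]), (1, [5, 4, 5, 2, 4, 5, 1, 4, 3, 5, 3, 2, 5, 4, 4, 2, 3, 5, 1, 4, 5, 3, 5]),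
  (3, [6, 5, 6, 6, 5, 2, 5, 5, 6, 2, 2]), (1, [1]), (0, [0]), (2, [2]), (0, [0]), (2, [0, 5, 4]),
  (12, [11, 9, 10, 10, 12, 11, 11, 8, 10, 8])]

/-- inequalities checked after segment 1 -/
def n1 : List (ℕ × ℕ) := [
  (1, 8)]

/-- positions needed after segment 1 -/
def q1 : List ℕ := [
  0, 1, 2, 5, 7, 8, 9, 10, 11, 12, 13, 15, 16]

/-- results after segment 1 -/
noncomputable def M1 : List ℕ := [
  m2, mW, m1, 0, 0, m0, 0, mD, oneM C, X, XI, Y, YI, Z, 0, T, TI]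

/-- segment 2 -/
def w2 : List (ℕ × List ℕ) := [
  (11, [9, 11, 15]), (17, [13, 11, 13]), (2, [0, 2, 1]), (0, [0]), (0, [0]), (4, [0]), (1, [3, 4]), (16, [16]),
  (2, [0, 1]), (0, [10]), (0, [0]), (0, [0, 1]), (0, [0, 0]), (1, [20, 0]), (0, [0]), (22, [22, 17, 1]),
  (29, [27, 27, 29, 25, 27, 29, 25, 28, 25, 27]), (0, [0]), (0, [0, 1]), (35, [35, 0, 34, 34]), (20, [0]), (0, [0]),
  (0, [0]), (0, [0, 39, 39]), (39, [39, 1, 2, 3])]

/-- positions needed after segment 2 -/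
def q2 : List ℕ := [
  0, 1, 9, 10, 13, 17, 25, 26, 30, 32, 33, 34, 35, 36, 37, 40, 41]

/-- results after segment 2 -/
noncomputable def M2 : List ℕ := [
  m4, m3, 0, 0, 0, 0, 0, 0, 0, mC, mB, 0, 0, m6, 0, 0, 0, m5, 0, 0, 0, 0, 0, 0, 0, m2, mW, 0, 0, 0, m0, 0, mD,
  oneM C, X, XI, Y, YI, 0, 0, T, TI]

/-- segment 3 -/
def w3 : List (ℕ × List ℕ) := [
  (40, [25, 41, 25, 40]), (42, [26, 41, 26, 42]), (38, [27, 39, 27, 38]), (40, [28, 39, 28, 40]),
  (4, [3, 1, 3, 38, 0]), (2, [40, 3, 1, 3, 6]), (0, [32, 1]), (2, [33, 1]), (3, [40, 2]), (2, [2]), (20, [20]),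
  (20, [20]), (38, [38]), (8, [7]), (1, [1, 40]), (4, [4, 25]), (4, [4, 25]), (47, [47, 49]), (11, [28]),
  (29, [12, 45]), (29, [52]), (53, [30, 47]), (15, [31]), (32, [16]), (17, [56]), (57, [18])]

/-- equalities checked after segment 3 -/
def e3 : List (ℕ × ℕ) := [
  (12, 59), (11, 59), (10, 59), (9, 59), (8, 59), (7, 6), (5, 4), (3, 2), (1, 0)]

/-- positions needed after segment 3 -/
def q3 : List ℕ := [
  13, 14, 15, 16, 17, 18, 19, 20, 21, 35, 36, 39, 43, 52, 56, 58]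

/-- results after segment 3 -/
noncomputable def M3 : List ℕ := [
  0, 0, 0, 0, 0, 0, 0, 0, 0, 0, 0, 0, 0, m13, m12, m11, m10, mF, m9, mA, m8, m7, 0, 0, 0, 0, 0, 0, 0, 0, 0, 0, 0, 0,
  0, mC, mB, 0, 0, m6, 0, 0, 0, m5, 0, 0, 0, 0, 0, 0, 0, 0, mW, 0, 0, 0, m0, 0, mD, 0, 0, 0, 0, 0, 0, 0, 0, 0]

/-- segment 4 -/
def w4 : List (ℕ × List ℕ) := [
  (36, [35]), (36, [37]), (38, [60]), (61, [39]), (56, [23]), (24, [57]), (58, [42]), (43, [59]), (60, [43]),
  (44, [61]), (62, [68]), (69, [63]), (55, [64]), (65, [56]), (53, [66]), (67, [54]), (32, [35, 31, 52, 72, 68]),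
  (38, [52, 37]), (34, [34, 33, 32, 74, 70]), (36, [38]), (34, [34, 76, 76, 72, 37]), (38, [57]),
  (58, [78, 78, 35, 39]), (40, [58]), (40, [40, 60, 38, 38, 80, 80, 41]), (42, [83]),
  (42, [42, 40, 40, 82, 82, 39, 78, 43])]

/-- equalities checked after segment 4 -/
def e4 : List (ℕ × ℕ) := [
  (26, 25), (24, 23), (22, 21), (20, 19), (18, 17), (16, 15), (14, 13), (12, 11), (45, 10), (9, 8), (7, 6), (5, 4),
  (3, 2), (1, 0)]

/-- positions needed after segment 4 -/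
def q4 : List ℕ := [
  40, 41, 42, 43, 45, 46, 62, 63, 66, 70, 79, 83, 85]

/-- results after segment 4 -/
noncomputable def M4 : List ℕ := [
  0, 0, 0, 0, 0, 0, 0, 0, 0, 0, 0, 0, 0, 0, 0, 0, 0, 0, 0, 0, 0, 0, 0, 0, 0, 0, 0, 0, 0, 0, 0, 0, 0, 0, 0, 0, 0, 0,
  0, 0, m13, m12, m11, m10, 0, m9, mA, 0, 0, 0, 0, 0, 0, 0, 0, 0, 0, 0, 0, 0, 0, 0, mC, mB, 0, 0, m6, 0, 0, 0, m5, 0,
  0, 0, 0, 0, 0, 0, 0, mW, 0, 0, 0, m0, 0, mD, 0, 0, 0, 0, 0, 0, 0, 0, 0]

/-- segment 5 -/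
def w5 : List (ℕ × List ℕ) := [
  (70, [46]), (44, [44, 86, 71]), (72, [65]), (45, [45, 73]), (74, [66]), (47, [47, 67, 75]), (76, [91]), (92, [77]),
  (78, [53]), (52, [51, 88, 79]), (76, [56]), (53, [74, 52, 94, 94, 51, 51, 77]), (78, [75]), (96, [98, 79]),
  (80, [76]), (58, [57, 57, 98, 100, 55, 81]), (82, [101]), (59, [80, 83]), (84, [63]), (81, [104, 59, 59, 85]),
  (90, [86, 65]), (63, [63, 83, 106, 61, 61, 91, 87])]

/-- equalities checked after segment 5 -/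
def e5 : List (ℕ × ℕ) := [
  (21, 20), (19, 18), (17, 16), (15, 14), (13, 12), (11, 10), (9, 8), (7, 6), (5, 4), (3, 2), (1, 0)]

theorem chk1 : segS C w1 [] n1 q1 L M1 = true := by decide +kernel

theorem chk2 : segS C w2 [] [] q2 M1 M2 = true := by decide +kernel

theorem chk3 : segS C w3 e3 [] q3 M2 M3 = true := by decide +kernel

theorem chk4 : segS C w4 e4 [] q4 M3 M4 = true := by decide +kernel

theorem chk5 : segS C w5 e5 [] [] M4 [] = true := by decide +kernel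

theorem good : Good C := good_of_check Rep.good

theorem p0 : PC C [0, 1, 2, 3, 4, 5, 6, 7] LG L := PC.of_forall A12Group.codesR

theorem s1 : PC C q1 (runG w1 LG) M1 ∧
    (∀ q ∈ ([] : List (ℕ × ℕ)), (runG w1 LG).getD q.1 1 = (runG w1 LG).getD q.2 1) ∧
    ∀ q ∈ n1, (runG w1 LG).getD q.1 1 ≠ (runG w1 LG).getD q.2 1 :=
  segS_sound good p0 chk1 (by decide +kernel) (by decide +kernel) (by decide +kernel)

theorem s2 : PC C q2 (runG w2 (runG w1 LG)) M2 ∧
    (∀ q ∈ ([] : List (ℕ × ℕ)), (runG w2 (runG w1 LG)).getD q.1 1 = (runG w2 (runG w1 LG)).getD q.2 1) ∧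
    ∀ q ∈ ([] : List (ℕ × ℕ)), (runG w2 (runG w1 LG)).getD q.1 1 ≠ (runG w2 (runG w1 LG)).getD q.2 1 :=
  segS_sound good s1.1 chk2 (by decide +kernel) (by decide +kernel) (by decide +kernel)

theorem s3 : PC C q3 (runG w3 (runG w2 (runG w1 LG))) M3 ∧
    (∀ q ∈ e3, (runG w3 (runG w2 (runG w1 LG))).getD q.1 1 = (runG w3 (runG w2 (runG w1 LG))).getD q.2 1) ∧
    ∀ q ∈ ([] : List (ℕ × ℕ)), (runG w3 (runG w2 (runG w1 LG))).getD q.1 1 ≠ (runG w3 (runG w2 (runG w1 LG))).getD q.2 1 :=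
  segS_sound good s2.1 chk3 (by decide +kernel) (by decide +kernel) (by decide +kernel)

theorem s4 : PC C q4 (runG w4 (runG w3 (runG w2 (runG w1 LG)))) M4 ∧
    (∀ q ∈ e4, (runG w4 (runG w3 (runG w2 (runG w1 LG)))).getD q.1 1 = (runG w4 (runG w3 (runG w2 (runG w1 LG)))).getD q.2 1) ∧
    ∀ q ∈ ([] : List (ℕ × ℕ)), (runG w4 (runG w3 (runG w2 (runG w1 LG)))).getD q.1 1 ≠ (runG w4 (runG w3 (runG w2 (runG w1 LG)))).getD q.2 1 :=
  segS_sound good s3.1 chk4 (by decide +kernel) (by decide +kernel) (by decide +kernel)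

theorem s5 : PC C [] (runG w5 (runG w4 (runG w3 (runG w2 (runG w1 LG))))) [] ∧
    (∀ q ∈ e5, (runG w5 (runG w4 (runG w3 (runG w2 (runG w1 LG))))).getD q.1 1 = (runG w5 (runG w4 (runG w3 (runG w2 (runG w1 LG))))).getD q.2 1) ∧
    ∀ q ∈ ([] : List (ℕ × ℕ)), (runG w5 (runG w4 (runG w3 (runG w2 (runG w1 LG))))).getD q.1 1 ≠ (runG w5 (runG w4 (runG w3 (runG w2 (runG w1 LG))))).getD q.2 1 :=
  segS_sound good s4.1 chk5 (by decide +kernel) (by decide +kernel) (by decide +kernel)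

theorem prog_eq : prog = w1 ++ (w2 ++ (w3 ++ (w4 ++ w5))) := by rfl

theorem run_eq {G : Type*} [Group G] (LG : List G) :
    runG prog LG = runG w5 (runG w4 (runG w3 (runG w2 (runG w1 LG)))) := by
  rw [prog_eq, runG_app, runG_app, runG_app, runG_app]

end Seg

open Cfsg.Agent.H839.SegS in
theorem sound : (∀ q ∈ es, (runG prog LG).getD q.1 1 = (runG prog LG).getD q.2 1) ∧
    (∀ q ∈ ns, (runG prog LG).getD q.1 1 ≠ (runG prog LG).getD q.2 1) := by
  rw [Seg.run_eq]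
  have c3 := eq_lift (ws := Seg.w5) (eq_lift (ws := Seg.w4) Seg.s3.2.1)
  have c4 := eq_lift (ws := Seg.w5) Seg.s4.2.1
  have c5 := Seg.s5.2.1
  have d1 := ne_lift (ws := Seg.w5) (ne_lift (ws := Seg.w4) (ne_lift (ws := Seg.w3) (ne_lift (ws := Seg.w2) Seg.s1.2.2)))
  have h1 : ∀ q ∈ es, q ∈ (Seg.e3.map (sh Seg.w4.length)).map (sh Seg.w5.length) ∨ q ∈ Seg.e4.map (sh Seg.w5.length) ∨
      q ∈ Seg.e5 := by decide +kernel
  have h2 : ∀ q ∈ ns, q ∈ (((Seg.n1.map (sh Seg.w2.length)).map (sh Seg.w3.length)).map (sh Seg.w4.length)).map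
      (sh Seg.w5.length) := by decide +kernel
  refine ⟨fun q hq => ?_, fun q hq => d1 q (h2 q hq)⟩
  rcases h1 q hq with h | h | h
  · exact c3 q h
  · exact c4 q h
  · exact c5 q h

/-- the results in the presented group -/
noncomputable def R (i : ℕ) : Cfsg.Spor.HN := (runG prog gens).getD i 1

theorem rho_R (i : ℕ) : rho (R i) = (runG prog LG).getD i 1 := by
  unfold R
  rw [← Rep.gens_map, runG_map, List.getD_eq_getElem?_getD, List.getD_eq_getElem?_getD, List.getElem?_map]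
  cases (runG prog gens)[i]? with
  | none => simp
  | some b => simp

theorem eqR {i j : ℕ} (h : (i, j) ∈ es) : R i = R j := by
  have := Cfsg.Agent.S1701.result.1
  apply A12Group.rho_injective
  rw [rho_R, rho_R]
  exact sound.1 (i, j) h

theorem neR {i j : ℕ} (h : (i, j) ∈ ns) : R i ≠ R j := by
  intro h1
  refine sound.2 (i, j) h ?_
  rw [← rho_R, ← rho_R, h1]


/-! ### The values of the results -/

/-- product -/
def evF {G : Type*} [Group G] (f : ℕ → G) : List ℕ → G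
  | [] => 1
  | i :: w => f i * evF f w

theorem evG_eq {G : Type*} [Group G] (LG : List G) (f : ℕ → G) (h : ∀ m, LG.getD m 1 = f m) (w : List ℕ) :
    evG LG w = evF f w := by
  induction w with
  | nil => rfl
  | cons i w ih => rw [evG_cons, h, ih]; rfl

theorem runG_getD {G : Type*} [Group G] (ws : List (ℕ × List ℕ)) (LG : List G) (m : ℕ) :
    (runG ws LG).getD (ws.length + m) 1 = LG.getD m 1 := by
  induction ws generalizing LG m with
  | nil => rw [List.length_nil, zero_add]; rfl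
  | cons w ws ih =>
    rw [runG_cons, List.length_cons, show ws.length + 1 + m = ws.length + (m + 1) by ring, ih, List.getD_cons_succ]

theorem runG_step {G : Type*} [Group G] (ws : List (ℕ × List ℕ)) (LG : List G) (i : ℕ) (hi : i < ws.length) :
    (runG ws LG).getD i 1 = evF (fun m => (runG ws LG).getD (i + 1 + m) 1)
      ((ws.reverse.getD i (0, [])).1 :: (ws.reverse.getD i (0, [])).2) := by
  induction ws generalizing LG with
  | nil => exact absurd hi (by simp)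
  | cons w ws ih =>
    rw [List.length_cons] at hi
    rcases Nat.lt_succ_iff_lt_or_eq.1 hi with h | h
    · have h1 : (w :: ws).reverse.getD i (0, []) = ws.reverse.getD i (0, []) := by
        rw [List.reverse_cons, List.getD_eq_getElem?_getD, List.getD_eq_getElem?_getD, List.getElem?_append_left (by simpa using h)]
      rw [h1, runG_cons]
      exact ih _ h
    · have h1 : (w :: ws).reverse.getD i (0, []) = w := by
        rw [List.reverse_cons, List.getD_eq_getElem?_getD, List.getElem?_append_right (by simp [h])]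
        simp [h]
      rw [h1]
      have h2 : ∀ m, LG.getD m 1 = (runG (w :: ws) LG).getD (i + 1 + m) 1 := by
        intro m
        have h3 := runG_getD (w :: ws) LG m
        rw [List.length_cons, ← h] at h3
        exact h3.symm
      rw [← evG_eq LG _ h2, runG_cons]
      have h3 := runG_getD ws (evG LG (w.1 :: w.2) :: LG) 0
      rw [add_zero, ← h, List.getD_cons_zero] at h3
      exact h3

theorem stepR {i : ℕ} {w : List ℕ} (hi : i < prog.length)
    (hw : ((prog.reverse.getD i (0, [])).1 :: (prog.reverse.getD i (0, [])).2) = w) :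
    R i = evF (fun m => R (i + 1 + m)) w := by
  rw [← hw]
  exact runG_step prog gens i hi

theorem genR (m : ℕ) : R (prog.length + m) = gens.getD m 1 := runG_getD prog gens m

end Cfsg.Agent.H839.Rad.HN
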